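import Groth.Agent.L19.LocFreeDescent
import Groth.Agent.L19.TildeFP
import Groth.Agent.L19.LimMod.Zero
import Groth.Agent.L18.LocFreeTilde
import Groth.Agent.L22.Inter.FlatTwist
import Groth.Agent.L16.CohKernel

/-!
Descent of finite type, finite presentation and finite local freeness of quasi-coherent modules along fppf families.
-/

set_option autoImplicit false
set_option linter.style.haveILetI false
set_option backward.isDefEq.respectTransparency.types false
set_option backward.isDefEq.respectTransparency false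

universe u

open CategoryTheory CategoryTheory.Limits AlgebraicGeometry TensorProduct

noncomputable section

namespace Groth.L15.GerbeDesc

section Algebra

variable {R : Type u} [CommRing R] {ι : Type u} [Finite ι] (B : ι → Type u) [∀ i, CommRing (B i)]
  [∀ i, Algebra R (B i)] [∀ i, Module.Flat R (B i)]

/-- Finite presentation descends along a jointly surjective finite family of flat algebras. -/
theorem finitePresentation_of_jointlySurjective
    (hsurj : ∀ p : PrimeSpectrum R, ∃ i q, PrimeSpectrum.comap (algebraMap R (B i)) q = p)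
    (N : Type u) [AddCommGroup N] [Module R N] [∀ i, Module.FinitePresentation (B i) (B i ⊗[R] N)] :
    Module.FinitePresentation R N := by
  haveI := Groth.L19.PullChart.finite_of_jointlySurjective B hsurj N
  obtain ⟨n, f, hf⟩ := Module.Finite.exists_fin' R N
  haveI : ∀ i, Module.Finite (B i) (B i ⊗[R] LinearMap.ker f) := fun i => by
    let j : B i ⊗[R] LinearMap.ker f →ₗ[B i] B i ⊗[R] (Fin n → R) := (LinearMap.ker f).subtype.baseChange (B i)
    have hj : Function.Injective j :=
      Module.Flat.lTensor_preserves_injective_linearMap (M := B i) _ (LinearMap.ker f).subtype_injective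
    have hsur : Function.Surjective (f.baseChange (B i)) := LinearMap.lTensor_surjective (B i) hf
    have hex : Function.Exact j (f.baseChange (B i)) :=
      lTensor_exact (B i) (LinearMap.exact_subtype_ker_map f) hf
    have hrange : LinearMap.range j = LinearMap.ker (f.baseChange (B i)) :=
      (LinearMap.exact_iff.1 hex).symm
    have hfg : (LinearMap.range j).FG :=
      hrange ▸ Module.FinitePresentation.fg_ker (f.baseChange (B i)) hsur
    haveI : Module.Finite (B i) (LinearMap.range j) := Module.Finite.iff_fg.2 hfg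
    exact Module.Finite.equiv (LinearEquiv.ofInjective j hj).symm
  haveI : Module.Finite R (LinearMap.ker f) :=
    Groth.L19.PullChart.finite_of_jointlySurjective B hsurj (LinearMap.ker f)
  exact Module.finitePresentation_of_surjective f hf (Module.Finite.iff_fg.1 inferInstance)

end Algebra

variable {X : Scheme.{u}} {W : X → Scheme.{u}} (v : ∀ t, W t ⟶ X)

/-- An fppf family has finite affine refinements over every affine chart. -/
theorem exists_refinement (hfl : ∀ t, Flat (v t)) (hfp : ∀ t, LocallyOfFinitePresentation (v t))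
    (hs : ∀ t : X, t ∈ Set.range (v t)) {U : X.Opens} (hU : IsAffineOpen U) :
    ∃ (s : Finset U) (V : ∀ p : s, (W p.1.1).Opens) (hle : ∀ p, V p ≤ v p.1.1 ⁻¹ᵁ U),
      (∀ p, IsAffineOpen (V p)) ∧ ∀ y ∈ U, ∃ p : s, ∃ z, z ∈ V p ∧ v p.1.1 z = y := by
  have h : ∀ p : U, ∃ V : (W p.1).Opens, IsAffineOpen V ∧ V ≤ v p.1 ⁻¹ᵁ U ∧
      p.1 ∈ (v p.1) '' (V : Set (W p.1)) := fun p => by
    obtain ⟨x, hx⟩ := hs p.1
    obtain ⟨V, hV, hxV, hVU⟩ := exists_isAffineOpen_mem_and_subset (x := x) (U := v p.1 ⁻¹ᵁ U)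
      (show v p.1 x ∈ U by rw [hx]; exact p.2)
    exact ⟨V, hV, hVU, x, hxV, hx⟩
  choose V hV hle hmem using h
  obtain ⟨s, hs'⟩ := hU.isCompact.elim_finite_subcover (fun p : U => (v p.1) '' (V p : Set (W p.1)))
    (fun p => by
      haveI := hfl p.1; haveI := hfp p.1
      exact (v p.1).isOpenMap _ (V p).isOpen)
    (fun y hy => Set.mem_iUnion.2 ⟨⟨y, hy⟩, hmem ⟨y, hy⟩⟩)
  refine ⟨s, fun p => V p.1, fun p => hle p.1, fun p => hV p.1, fun y hy => ?_⟩
  obtain ⟨p, hp, z, hz, hzy⟩ := Set.mem_iUnion₂.1 (hs' hy)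
  exact ⟨⟨p, hp⟩, z, hz, hzy⟩

/-- On every affine chart a quasi-coherent module comes with a finite flat family of algebras on which its base
change is a chart of a pullback along the family. -/
theorem exists_charts (hfl : ∀ t, Flat (v t)) (hfp : ∀ t, LocallyOfFinitePresentation (v t))
    (hs : ∀ t : X, t ∈ Set.range (v t)) (M : X.Modules) [Coh.IsQCoh M] (x : X) :
    ∃ (R : CommRingCat.{u}) (j : Spec R ⟶ X) (_ : IsOpenImmersion j) (N : ModuleCat.{u} R),
      x ∈ j.opensRange ∧ Nonempty (M.restrict j ≅ tilde N) ∧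
      ∃ (ι : Type u) (_ : Finite ι) (B : ι → CommRingCat.{u}) (φ : ∀ i, R ⟶ B i),
        (∀ i, (φ i).hom.Flat) ∧
        (∀ p : PrimeSpectrum R, ∃ i q, PrimeSpectrum.comap (φ i).hom q = p) ∧
        ∀ i, ∃ (t : X) (k : Spec (B i) ⟶ W t) (_ : IsOpenImmersion k),
          Nonempty (((Scheme.Modules.pullback (v t)).obj M).restrict k ≅
            tilde ((ModuleCat.extendScalars (φ i).hom).obj N)) := by
  obtain ⟨U, hU, hxU, -⟩ := exists_isAffineOpen_mem_and_subset (x := x) (U := (⊤ : X.Opens)) trivial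
  obtain ⟨N, ⟨e⟩⟩ := Groth.L00.Local.exists_tilde_iso_restrict hU.fromSpec M
  obtain ⟨s, V, hle, hV, hcov⟩ := exists_refinement v hfl hfp hs hU
  refine ⟨_, hU.fromSpec, inferInstance, N, by rw [hU.opensRange_fromSpec]; exact hxU, ⟨e⟩, ↥s,
    inferInstance, fun p => Γ(W p.1.1, V p), fun p => (v p.1.1).appLE U (V p) (hle p), ?_, ?_, fun p => ?_⟩
  · exact fun p =>
      HasRingHomProperty.appLE (P := @Flat) (v p.1.1) (hfl p.1.1) ⟨U, hU⟩ ⟨V p, hV p⟩ (hle p)
  · intro q
    obtain ⟨p, z, hz, hzq⟩ := hcov (hU.fromSpec q) (hU.range_fromSpec.le ⟨q, rfl⟩)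
    refine ⟨p, (hV p).primeIdealOf ⟨z, hz⟩, hU.fromSpec.isOpenEmbedding.injective ?_⟩
    have h1 := congr($(hU.SpecMap_appLE_fromSpec (v p.1.1) (hV p) (hle p)) ((hV p).primeIdealOf ⟨z, hz⟩))
    rw [Scheme.Hom.comp_apply, Scheme.Hom.comp_apply] at h1
    erw [(hV p).fromSpec_primeIdealOf] at h1
    exact h1.trans hzq
  · exact ⟨p.1.1, (hV p).fromSpec, inferInstance,
      Groth.L19.PullChart.nonempty_chart_pullback (v p.1.1) M ((v p.1.1).appLE U (V p) (hle p)) hU.fromSpec
        (hV p).fromSpec (hU.SpecMap_appLE_fromSpec (v p.1.1) (hV p) (hle p)).symm N e⟩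

variable {v} (hfl : ∀ t, Flat (v t)) (hfp : ∀ t, LocallyOfFinitePresentation (v t))
  (hs : ∀ t : X, t ∈ Set.range (v t)) (M : X.Modules) [Coh.IsQCoh M]

include hfl hfp hs

/-- Finite type descends along fppf families. -/
theorem isFT_of_family (h : ∀ t, CohB1.IsFT ((Scheme.Modules.pullback (v t)).obj M)) : CohB1.IsFT M := by
  refine (Groth.L16.CohKernel.isCoh_of_tilde_charts M fun x => ?_).2
  obtain ⟨R, j, hj, N, hx, he, ι, hι, B, φ, hflat, hsurj, hk⟩ := exists_charts v hfl hfp hs M x
  refine ⟨R, j, hj, N, hx, ?_, he⟩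
  letI : ∀ i, Algebra R (B i) := fun i => (φ i).hom.toAlgebra
  haveI : ∀ i, Module.Flat R (B i) := hflat
  haveI : ∀ i, Module.Finite (B i) (B i ⊗[R] N) := fun i => by
    obtain ⟨t, k, hk', ⟨e'⟩⟩ := hk i
    haveI : Coh.IsQCoh ((Scheme.Modules.pullback (v t)).obj M) := Groth.L19.LimMod.isQCoh_pullback (v t) M
    haveI := Groth.L16.CohKernel.finite_of_tilde_iso _ (h t) k _ e'
    obtain ⟨e''⟩ := Groth.L18.TildeF.extendScalars_equiv (S := B i) N
    exact Module.Finite.equiv e''
  exact Groth.L19.PullChart.finite_of_jointlySurjective (fun i => B i) hsurj N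

/-- Finite presentation descends along fppf families. -/
theorem isFP_of_family (h : ∀ t, CohB1.IsFP ((Scheme.Modules.pullback (v t)).obj M)) : CohB1.IsFP M := by
  refine Groth.L19.isFP_of_tilde_charts M fun x => ?_
  obtain ⟨R, j, hj, N, hx, he, ι, hι, B, φ, hflat, hsurj, hk⟩ := exists_charts v hfl hfp hs M x
  refine ⟨R, j, hj, N, hx, ?_, he⟩
  letI : ∀ i, Algebra R (B i) := fun i => (φ i).hom.toAlgebra
  haveI : ∀ i, Module.Flat R (B i) := hflat
  haveI : ∀ i, Module.FinitePresentation (B i) (B i ⊗[R] N) := fun i => by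
    obtain ⟨t, k, hk', ⟨e'⟩⟩ := hk i
    haveI := (Groth.L18.LFP.tilde_isFP_iff _).1 (Groth.L22.Inter.FlatTwist.isFP_of_iso
      ((((Scheme.Modules.restrictFunctorIsoPullback k).app _).symm) ≪≫ e')
      (Groth.L19.LimMod.isFP_pullback' k _ (h t)))
    obtain ⟨e''⟩ := Groth.L18.TildeF.extendScalars_equiv (S := B i) N
    exact Module.FinitePresentation.of_equiv e''
  exact finitePresentation_of_jointlySurjective (fun i => B i) hsurj N

/-- Finite local freeness descends along fppf families. -/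
theorem isFinLocFree_of_family (h : ∀ t, FlatMod.IsFinLocFree ((Scheme.Modules.pullback (v t)).obj M)) :
    FlatMod.IsFinLocFree M := by
  refine Groth.L19.PullChart.isFinLocFree_of_projective_charts M fun x => ?_
  obtain ⟨R, j, hj, N, hx, he, ι, hι, B, φ, hflat, hsurj, hk⟩ := exists_charts v hfl hfp hs M x
  letI : ∀ i, Algebra R (B i) := fun i => (φ i).hom.toAlgebra
  haveI : ∀ i, Module.Flat R (B i) := hflat
  have hfree : ∀ i, Module.Finite (B i) (B i ⊗[R] N) ∧ Module.Projective (B i) (B i ⊗[R] N) := fun i => by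
    obtain ⟨t, k, hk', ⟨e'⟩⟩ := hk i
    obtain ⟨h1, h2⟩ := (Groth.L18.LFP.isFinLocFree_tilde_iff _).1 (Groth.L29.LocFree.of_iso
      ((((Scheme.Modules.restrictFunctorIsoPullback k).app _).symm) ≪≫ e')
      (Groth.L29.LocFree.pullback k (h t)))
    obtain ⟨e''⟩ := Groth.L18.TildeF.extendScalars_equiv (S := B i) N
    exact ⟨Module.Finite.equiv e'', Module.Projective.of_equiv e''⟩
  haveI := fun i => (hfree i).1
  haveI := fun i => (hfree i).2
  obtain ⟨hfp', hproj⟩ := Groth.L19.PullChart.projective_of_jointlySurjective (fun i => B i) hsurj N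
  exact ⟨R, j, hj, N, hx, hfp', hproj, he⟩

end Groth.L15.GerbeDesc
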