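import Groth.Agent.L18.LocFreeFP
import Groth.Agent.L10.SecPres.AtPointSpace
import Groth.Agent.L16.CohKernel

/-!
Locally free modules of finite type on schemes are the finite locally free ones.
-/

set_option autoImplicit false
set_option linter.style.haveILetI false
set_option backward.isDefEq.respectTransparency.types false
set_option backward.isDefEq.respectTransparency false

universe u

open CategoryTheory CategoryTheory.Limits AlgebraicGeometry TopologicalSpace
open Groth.L10.SecPres

noncomputable section

namespace Groth.L15.GerbeDesc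

variable {X : Scheme.{u}}

/-- A module with a presentation without relations and finitely many generators is free. -/
theorem nonempty_iso_freeMod (M : X.Modules) (P : M.Presentation) [Finite P.generators.I]
    [IsEmpty P.relations.I] : Nonempty (M ≅ FlatMod.freeMod X (Nat.card P.generators.I)) := by
  have h0 : P.relations.π ≫ kernel.ι _ = 0 :=
    Cofan.IsColimit.hom_ext (SheafOfModules.isColimitFreeCofan P.relations.I) _ _ fun j => isEmptyElim j
  exact ⟨(IsColimit.coconePointUniqueUpToIso (colimit.isColimit _) P.isColimit).symm ≪≫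
    cokernelIsoOfEq h0 ≪≫ cokernelZeroIsoTarget ≪≫ Groth.L18.LFP.freeIso X _⟩

theorem isFinLocFree_of_isLocallyFree_of_isFiniteType (M : X.Modules)
    (h : SheafOfModules.IsLocallyFree (R := X.ringCatSheaf) M)
    (hT : SheafOfModules.IsFiniteType (R := X.ringCatSheaf) M) : FlatMod.IsFinLocFree M := by
  intro x
  have h' : Locally (Opens.grothendieckTopology X) fun W : X.Opens =>
      ∃ P : SPres (O := X.sheaf) M W, IsEmpty P.R := (isLocallyFree_iff (O := X.sheaf) (F := M)).1 h
  have hT' : Locally (Opens.grothendieckTopology X) fun W : X.Opens =>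
      ∃ P : SGen (O := X.sheaf) M W, Finite P.I := (isFiniteType_iff (O := X.sheaf) (F := M)).1 hT
  obtain ⟨W, hW, P, hP⟩ := AtPoint.exists_near_point h' x
  obtain ⟨W', hW', Q, hQ⟩ := AtPoint.exists_near_point hT' x
  haveI := hP; haveI := hQ
  haveI := AtPoint.nontrivial_stalkRing (O := X.sheaf) (x := x)
    (inferInstanceAs (Nontrivial (X.presheaf.stalk x)))
  haveI : Module.Finite (ModSite.stalkRing (AtPoint.pt x) X.sheaf)
      (ModSite.stalkMod (O := X.sheaf) (AtPoint.pt x) M) :=
    ⟨Submodule.fg_def.2 ⟨_, Set.finite_range _,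
      AtPoint.span_gm_eq_top (AtPoint.pt x) (O := X.sheaf) M Q.gen ⟨⟨hW'⟩⟩⟩⟩
  haveI : Finite P.I := Module.Finite.finite_basis (AtPoint.basisAt (AtPoint.pt x) P ⟨⟨hW⟩⟩)
  haveI : PreservesColimitsOfSize.{u, u} (Scheme.Modules.overEquiv W).functor :=
    (Scheme.Modules.overEquiv W).toAdjunction.leftAdjoint_preservesColimits
  let P₁ := (P.presentation.map (Scheme.Modules.overEquiv W).functor
    (TopologicalSpace.Opens.sheafOfModulesEquivOverUnit W X.ringCatSheaf).symm).ofIsIso
      ((Scheme.Modules.overFunctorEquiv W).app M).hom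
  haveI : Finite P₁.generators.I := inferInstanceAs (Finite P.I)
  haveI : IsEmpty P₁.relations.I := inferInstanceAs (IsEmpty P.R)
  exact ⟨W, _, hW, nonempty_iso_freeMod _ P₁⟩

theorem isLocallyFree_of_isFinLocFree (M : X.Modules) (h : FlatMod.IsFinLocFree M) :
    SheafOfModules.IsLocallyFree (R := X.ringCatSheaf) M := by
  refine (isLocallyFree_iff (O := X.sheaf) (F := M)).2 ?_
  choose U n hx e using h
  refine locally_of_coversTop (X := U)
    (Groth.L00.Local.coversTop_of_forall_exists U fun x => ⟨x, hx x⟩) fun x V v => ?_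
  let P₀ : SheafOfModules.Presentation (SheafOfModules.over (R := X.ringCatSheaf) M (U x)) :=
    SheafOfModules.Presentation.ofIsIso.{u, u, u} (Groth.L00.Local.overIso M (U x)).hom
      (((Groth.L18.LFP.freePresentation (U x : Scheme.{u}) (n x)).ofIsIso (e x).some.inv).map
        (Scheme.Modules.overEquiv (U x)).inverse (Groth.L00.Local.overInverseUnit (U x)))
  let Q : SPres (O := X.sheaf) M (U x) := spresOf (O := X.sheaf) (F := M) P₀
  exact ⟨Q.res v, inferInstanceAs (IsEmpty PEmpty.{u + 1})⟩

theorem isFiniteType_of_isFinLocFree (M : X.Modules) (h : FlatMod.IsFinLocFree M) :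
    SheafOfModules.IsFiniteType (R := X.ringCatSheaf) M := by
  haveI : SheafOfModules.IsFinitePresentation (R := X.ringCatSheaf) M := Groth.L18.LFP.isFP_of_isFinLocFree M h
  infer_instance

end Groth.L15.GerbeDesc
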