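import Groth.Agent.L15.GerbeDesc.LocFree
import Groth.Agent.L15.GerbeDesc.Descent
import Groth.Agent.L09.Gerbe.Scheme
import Groth.Prelude.Def_StMod6
import Groth.Prelude.Def_StGerb

/-!
Properties of quasi-coherent modules descend along locally surjective functors.
-/

set_option autoImplicit false
set_option linter.style.haveILetI false
set_option backward.isDefEq.respectTransparency.types false
set_option backward.isDefEq.respectTransparency false

universe u

open CategoryTheory CategoryTheory.Limits AlgebraicGeometry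

noncomputable section

namespace Groth.L15.GerbeDesc

theorem isFT_of_iso {X : Scheme.{u}} {M N : X.Modules} (e : M ≅ N) (h : CohB1.IsFT M) : CohB1.IsFT N :=
  Groth.L00.Local.isFT_of_generators N fun x => by
    obtain ⟨U, σ, hx, hσ⟩ := Groth.L00.Local.exists_generators_of_isFT M h x
    exact ⟨U, σ.ofEpi ((Scheme.Modules.restrictFunctor U.ι).mapIso e).hom, hx, hσ⟩

variable (P : ∀ {X : Scheme.{u}}, X.Modules → Prop)

theorem castMod_iff {X T : Scheme.{u}} (h : X = T) (M : X.Modules) : P (StMod.castMod h M) ↔ P M := by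
  subst h; exact Iff.rfl

variable {S : Scheme.{u}} {𝒳 𝒴 : AlgSt.Cat S} (π : 𝒳 ⥤ᵇ 𝒴) (G : StMod.QCoh 𝒴)

theorem comap_of (hP : ∀ η, P (G.obj.obj η)) (ξ : 𝒳.obj) : P (((StMod.comapQ π).obj G).obj.obj ξ) :=
  (castMod_iff P (StMod.sch_obj_eq π ξ) _).2 (hP (π.obj ξ))

/-- A property that is invariant under isomorphism and descends along fppf families descends along a functor
that is locally surjective on objects. -/
theorem of_comap (hlocal : Gerb.LocSurjObj (QuotSh.J Scheme.fppfPrecoverage S) π)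
    (hiso : ∀ {X : Scheme.{u}} {M N : X.Modules}, (M ≅ N) → P M → P N)
    (hdesc : ∀ {X : Scheme.{u}} {W : X → Scheme.{u}} {v : ∀ t, W t ⟶ X} (_ : ∀ t, Flat (v t))
      (_ : ∀ t, LocallyOfFinitePresentation (v t)) (_ : ∀ t : X, t ∈ Set.range (v t)) (M : X.Modules)
      [Coh.IsQCoh M], (∀ t, P ((Scheme.Modules.pullback (v t)).obj M)) → P M)
    (hP : ∀ ξ, P (((StMod.comapQ π).obj G).obj.obj ξ)) (η : 𝒴.obj) : P (G.obj.obj η) := by
  obtain ⟨R, hR, hlift⟩ := hlocal η
  obtain ⟨W, v, hv, hfl, hfp, hs⟩ := Groth.L09.Gerbe.exists_cover_of_mem_J (U := 𝒴.p.obj η) hR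
  choose x g hg using fun t => hlift (v t) (hv t)
  have hfac : ∀ t, ∃ h : StMod.sch 𝒴 (π.obj (x t)) = (W t).left,
      StMod.bmap 𝒴 (g t) = eqToHom h ≫ (v t).left := fun t => by
    haveI := hg t
    refine ⟨congrArg Comma.left (IsHomLift.domain_eq 𝒴.p (v t) (g t)), ?_⟩
    have h' := congrArg (fun k => k.left) (IsHomLift.fac' 𝒴.p (v t) (g t))
    simp only [Over.comp_left, Over.eqToHom_left, eqToHom_refl, Category.comp_id] at h'
    simpa [StMod.bmap] using h'
  choose he hbm using hfac
  haveI : Coh.IsQCoh (G.obj.obj η) := G.property.2 η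
  refine hdesc (W := fun t => StMod.sch 𝒴 (π.obj (x t))) (v := fun t => StMod.bmap 𝒴 (g t))
    (fun t => ?_) (fun t => ?_) (fun t => ?_) (G.obj.obj η) (fun t => ?_)
  · haveI := hfl t
    rw [hbm]; infer_instance
  · haveI := hfp t
    rw [hbm]; infer_instance
  · obtain ⟨z, hz⟩ := hs t
    refine ⟨eqToHom (he t).symm z, ?_⟩
    rw [hbm, ← Scheme.Hom.comp_apply, ← Category.assoc, eqToHom_trans, eqToHom_refl, Category.id_comp]
    exact hz
  · haveI := G.property.1 (g t) (g := StMod.bmap 𝒴 (g t)) rfl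
    exact hiso (asIso (((Scheme.Modules.pullbackPushforwardAdjunction (StMod.bmap 𝒴 (g t))).homEquiv _ _).symm
        (G.obj.map (g t) rfl))).symm
      ((castMod_iff P (StMod.sch_obj_eq π (x t)) _).1 (hP (x t)))

end Groth.L15.GerbeDesc
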